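import Cfsg.Agent.Lib.PEmbRankOne.Main
import Cfsg.Agent.Lib.GorensteinWalter.Wiring
import Cfsg.Agent.Lib.LAEven57.FrobQuot.Main
import Cfsg.Agent.Lib.Alternating.Aut
import Cfsg.Agent.Lib.Cores.MinNormal
import Cfsg.Agent.S0251

/-!
# Groups with dihedral Sylow 2-subgroups and trivial odd core, given the Gorenstein–Walter proposition

The socle analysis follows `Lib/GorensteinWalter/Structure.lean`.
-/

set_option autoImplicit false
set_option linter.unusedSectionVars false
set_option linter.style.haveILetI false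

namespace Cfsg.Agent.Lib.PEmbRankOne

open Cfsg.Agent.Lib.Fusion.Dihedral DihedralGroup
open Cfsg.Agent.Lib.GorensteinWalter

universe u

/-- The socle of a group with trivial odd core and cyclic or dihedral Sylow 2-subgroups that is not
a 2-group. -/
theorem socle_cases {Y : Type u} [Group Y] [Finite Y] (hY : SylowCD Y)
    (hO : Cfsg.oddCore Y = ⊥) (hnp : ¬ IsPGroup 2 Y) :
    (∃ N : Subgroup Y, N.Normal ∧ IsFour N ∧ Subgroup.centralizer (N : Set Y) ≤ N) ∨
      ∃ N : Subgroup Y, N.Normal ∧ IsSimpleGroup N ∧ ¬ IsMulCommutative N ∧ HasDihedralSylow N ∧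
        Subgroup.centralizer (N : Set Y) = ⊥ := by
  classical
  haveI : Fact (Nat.Prime 2) := ⟨Nat.prime_two⟩
  obtain ⟨x, hxo, hx1⟩ : ∃ x : Y, Odd (orderOf x) ∧ x ≠ 1 := by
    by_contra hno
    push Not at hno
    refine hnp (IsPGroup.of_card (n := (Nat.card Y).primeFactorsList.length)
      (Nat.eq_prime_pow_of_unique_prime_dvd Nat.card_pos.ne' fun {q} hq hd => ?_))
    by_contra hq2
    haveI : Fact q.Prime := ⟨hq⟩
    obtain ⟨y, hy⟩ := exists_prime_orderOf_dvd_card' q hd
    exact hq.one_lt.ne (by rw [← hy, hno y (hy ▸ hq.odd_of_ne_two hq2), orderOf_one])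
  haveI : Nontrivial Y := ⟨⟨x, 1, hx1⟩⟩
  obtain ⟨N, hN, hNne, hmin⟩ := Cores.MinNormal.exists_minimal (G := Y)
  haveI := hN
  have hNeven : ¬ Odd (Nat.card N) := fun ho => hNne (le_bot_iff.1 (hO ▸ Cores.le_oddCore ho))
  by_cases hNs : ⁅N, N⁆ = ⊥
  · -- an elementary abelian socle
    have hNc : ∀ a ∈ N, ∀ b ∈ N, a * b = b * a := fun a ha b hb =>
      (Subgroup.mem_centralizer_iff.1 (Subgroup.commutator_eq_bot_iff_le_centralizer.1 hNs hb) a ha)
    let E : Subgroup Y :=
      { carrier := {a | a ∈ N ∧ a * a = 1}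
        one_mem' := ⟨one_mem N, one_mul 1⟩
        mul_mem' := fun {a b} ha hb => ⟨mul_mem ha.1 hb.1, by
          rw [(show Commute b a from hNc b hb.1 a ha.1).mul_mul_mul_comm, ha.2, hb.2, one_mul]⟩
        inv_mem' := fun {a} ha => ⟨inv_mem ha.1, by rw [← mul_inv_rev, ha.2, inv_one]⟩ }
    haveI hEn : E.Normal := ⟨fun a ha g => ⟨hN.conj_mem a ha.1 g, by
      rw [conj_mul, ha.2, mul_one, mul_inv_cancel]⟩⟩
    have hEN : E = N := by
      rcases hmin E hEn (fun a ha => ha.1) with h | h
      · exfalso
        obtain ⟨t, ht⟩ := exists_prime_orderOf_dvd_card' (G := N) 2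
          (even_iff_two_dvd.1 (Nat.not_odd_iff_even.1 hNeven))
        have hmem : (t : Y) ∈ E := ⟨t.2, by
          have := pow_orderOf_eq_one (t : Y)
          rwa [Subgroup.orderOf_coe, ht, sq] at this⟩
        rw [h, Subgroup.mem_bot] at hmem
        rw [← Subgroup.orderOf_coe, hmem, orderOf_one] at ht
        omega
      · exact h
    have hsq : ∀ a ∈ N, a * a = 1 := fun a ha => (hEN.symm ▸ ha : a ∈ E).2
    have hNp : IsPGroup 2 N := fun a => ⟨1, Subtype.ext (by simpa [pow_one, sq] using hsq a a.2)⟩
    obtain ⟨j, hj⟩ := IsPGroup.iff_card.1 hNp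
    have hle := hY.card_le_four hsq
    rw [hj] at hle
    -- some four-group of `Y` is fused
    obtain ⟨U, hU, n, hnU, hnodd, hnne⟩ : ∃ U : Subgroup Y, IsFour U ∧
        ∃ n ∈ Subgroup.normalizer (U : Set Y), Odd (orderOf n) ∧ ¬ ∀ x ∈ U, n * x = x * n := by
      by_contra hno
      have h := hY.odd_mem_oddCore (fun U hU n hn ho => by
        by_contra hne
        exact hno ⟨U, hU, n, hn, ho, hne⟩) hxo
      rw [hO, Subgroup.mem_bot] at h
      exact hx1 h
    rcases j with _ | _ | _ | j
    · exact absurd (by rw [hj]; norm_num) hNeven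
    · exfalso
      -- a central involution
      obtain ⟨z, hz, hz1⟩ : ∃ z ∈ N, z ≠ 1 := by
        by_contra hno
        push Not at hno
        exact hNne (Subgroup.eq_bot_iff_forall N |>.2 hno)
      have hNel : ∀ a ∈ N, a = 1 ∨ a = z := fun a ha => by
        by_contra hc
        push Not at hc
        have hinj : Function.Injective (fun i : Fin 3 =>
            (![⟨1, one_mem N⟩, ⟨z, hz⟩, ⟨a, ha⟩] i : N)) := by
          intro i i' h
          fin_cases i <;> fin_cases i' <;> simp [Subtype.ext_iff] at h ⊢ <;> first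
            | exact absurd h hz1 | exact absurd h.symm hz1 | exact absurd h hc.1
            | exact absurd h.symm hc.1 | exact absurd h hc.2 | exact absurd h.symm hc.2
        have := Nat.card_le_card_of_injective _ hinj
        rw [Nat.card_eq_fintype_card, Fintype.card_fin, hj] at this
        omega
      have hcen : ∀ g : Y, g * z * g⁻¹ = z := fun g =>
        (hNel _ (hN.conj_mem z hz g)).resolve_left fun h => hz1 (conj_eq_one_iff.1 h)
      have hzU : z ∈ U := by
        have hsqs : ∀ x ∈ U ⊔ N, x * x = 1 := by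
          intro x hx
          rw [← SetLike.mem_coe, Subgroup.mul_normal] at hx
          obtain ⟨u, hu, a, ha, rfl⟩ := hx
          dsimp only
          rcases hNel a ha with h | h
          · rw [h, mul_one]; exact hU.2 u hu
          · rw [h]
            have hc : u * z = z * u := mul_inv_eq_iff_eq_mul.1 (hcen u)
            rw [(show Commute z u from hc.symm).mul_mul_mul_comm, hU.2 u hu, hsq z hz, one_mul]
        have := Subgroup.eq_of_le_of_card_ge (le_sup_left : U ≤ U ⊔ N)
          (by rw [hU.1]; exact hY.card_le_four hsqs)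
        rw [this]
        exact (le_sup_right : N ≤ U ⊔ N) hz
      obtain ⟨u, hu, hu1, huz⟩ : ∃ u ∈ U, u ≠ 1 ∧ u ≠ z := by
        by_contra hno
        push Not at hno
        have hs : Function.Surjective (fun i : Bool => if i then (⟨z, hzU⟩ : U) else 1) := fun x => by
          by_cases hx : (x : Y) = 1
          · exact ⟨false, Subtype.ext hx.symm⟩
          · exact ⟨true, Subtype.ext (hno x x.2 hx).symm⟩
        have := Nat.card_le_card_of_surjective _ hs
        rw [hU.1, Nat.card_eq_fintype_card, Fintype.card_bool] at this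
        omega
      obtain ⟨g, -, -, hg⟩ := exists_conj_of_odd hU hnU hnodd hnne hzU hz1 hu hu1
      exact huz (hg.symm.trans (hcen g))
    · -- a normal four-group
      have hN4 : IsFour N := ⟨hj, hsq⟩
      set C := Subgroup.centralizer (N : Set Y) with hC
      haveI : C.Normal := Subgroup.normal_centralizer
      have hNC : N ≤ C := fun a ha => Subgroup.mem_centralizer_iff.2 fun b hb => hNc b hb a ha
      obtain ⟨T⟩ : Nonempty (Sylow 2 C) := inferInstance
      have hNT : N.subgroupOf C ≤ (T : Subgroup C) :=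
        (Cores.le_pCore (hNp.of_equiv (Subgroup.subgroupOfEquivOfLe hNC).symm)).trans (Cores.pCore_le_sylow T)
      have hTc : Subgroup.normalizer ((T : Subgroup C) : Set C) ≤
          Subgroup.centralizer ((T : Subgroup C) : Set C) := by
        intro c _
        rw [Subgroup.mem_centralizer_iff]
        intro t ht
        refine Subtype.ext ?_
        have htN : (t : Y) ∈ N := hY.mem_four hN4 (C := (T : Subgroup C).map C.subtype) (T.2.map _)
          (fun a ha => ⟨⟨a, hNC ha⟩, hNT (Subgroup.mem_subgroupOf.2 ha), rfl⟩)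
          (Subgroup.map_subtype_le _) ⟨t, ht, rfl⟩
        exact Subgroup.mem_centralizer_iff.1 c.2 t htN
      have hCN : C = N := by
        refine le_antisymm ?_ hNC
        intro c hc
        set L := (MonoidHom.transferSylow T hTc).ker
        have hcomp := MonoidHom.ker_transferSylow_isComplement' T hTc
        have hLodd : Odd (Nat.card L) := by
          rw [← hcomp.index_eq_card, ← Nat.not_even_iff_odd, even_iff_two_dvd]
          exact T.not_dvd_index
        have hL : L = ⊥ := by
          haveI := Cores.normal_map_subtype C (Cfsg.oddCore C)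
          have h1 : (Cfsg.oddCore C).map C.subtype ≤ Cfsg.oddCore Y := Cores.le_oddCore (by
            rw [Subgroup.card_map_of_injective C.subtype_injective]; exact Cores.oddCore_odd)
          rw [hO, le_bot_iff, Subgroup.map_eq_bot_iff_of_injective _ C.subtype_injective] at h1
          exact le_bot_iff.1 (h1 ▸ Cores.le_oddCore hLodd)
        have hTtop : (T : Subgroup C) = ⊤ := by
          rw [← Subgroup.isComplement'_bot_left]; rw [← hL]; exact hcomp
        exact hY.mem_four hN4 (C := C) (fun a => by
            obtain ⟨k, hk⟩ := T.2 ⟨a, hTtop ▸ Subgroup.mem_top a⟩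
            exact ⟨k, congrArg Subtype.val hk⟩) hNC le_rfl hc
      exact Or.inl ⟨N, hN, hN4, le_of_eq hCN⟩
    · exfalso
      have hle' : 2 ^ (j + 3) ≤ 4 := hle
      have : 8 ≤ 2 ^ (j + 3) := by
        calc 8 = 2 ^ 3 := rfl
          _ ≤ 2 ^ (j + 3) := Nat.pow_le_pow_right two_pos (by omega)
      omega
  · -- a simple socle
    have hNN : ⁅N, N⁆ = N := (hmin _ inferInstance (Subgroup.commutator_le_right N N)).resolve_left hNs
    haveI : Group.IsPerfect N := ⟨Subgroup.map_injective N.subtype_injective (by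
      rw [Subgroup.map_subtype_commutator, hNN, ← MonoidHom.range_eq_map, Subgroup.range_subtype])⟩
    haveI : Nontrivial N := (Subgroup.nontrivial_iff_ne_bot N).2 hNne
    have hON : Cfsg.oddCore N = ⊥ := by
      haveI := Cores.normal_map_subtype N (Cfsg.oddCore N)
      have h1 : (Cfsg.oddCore N).map N.subtype ≤ Cfsg.oddCore Y := Cores.le_oddCore (by
        rw [Subgroup.card_map_of_injective N.subtype_injective]; exact Cores.oddCore_odd)
      rw [hO, le_bot_iff, Subgroup.map_eq_bot_iff_of_injective _ N.subtype_injective] at h1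
      exact h1
    obtain ⟨hsimp, hnaN, hdN⟩ := (hY.subgroup N).simple_of_perfect hON
    haveI := hsimp
    have hCN : Subgroup.centralizer (N : Set Y) = ⊥ := by
      set C := Subgroup.centralizer (N : Set Y)
      haveI : C.Normal := Subgroup.normal_centralizer
      have hCi : C ⊓ N = ⊥ := by
        rcases hmin (C ⊓ N) inferInstance inf_le_right with h | h
        · exact h
        · exfalso
          refine hnaN ⟨⟨fun a b => Subtype.ext ?_⟩⟩
          exact Subgroup.mem_centralizer_iff.1 ((h.ge b.2).1) a a.2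
      by_contra hne
      have hCe : ¬ Odd (Nat.card C) := fun ho => hne (le_bot_iff.1 (hO ▸ Cores.le_oddCore ho))
      obtain ⟨z, hz⟩ := exists_prime_orderOf_dvd_card' (G := C) 2
        (even_iff_two_dvd.1 (Nat.not_odd_iff_even.1 hCe))
      rw [← Subgroup.orderOf_coe] at hz
      obtain ⟨S⟩ : Nonempty (Sylow 2 N) := inferInstance
      obtain ⟨m, hm, ⟨e⟩⟩ := hdN S
      obtain ⟨R, -, hR, -, -⟩ := (Coords.ofEquiv e).exists_four_of_le hm 0
      set W := R.map N.subtype
      have hWN : W ≤ N := Subgroup.map_subtype_le _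
      have hWsq : ∀ x ∈ W, x * x = 1 := by
        rintro _ ⟨a, ha, rfl⟩
        rw [← map_mul, hR.2 a ha, map_one]
      have hsqs : ∀ x ∈ W ⊔ Subgroup.zpowers (z : Y), x * x = 1 := by
        intro x hx
        have hle : Subgroup.zpowers (z : Y) ≤ Subgroup.normalizer (W : Set Y) := by
          refine le_trans ?_ (Subgroup.centralizer_le_normalizer _)
          rw [Subgroup.zpowers_le]
          exact Subgroup.centralizer_le hWN z.2
        rw [← SetLike.mem_coe, Subgroup.coe_mul_of_right_le_normalizer_left _ _ hle] at hx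
        obtain ⟨w, hw, b, hb, rfl⟩ := hx
        have hcm : Commute b w := by
          obtain ⟨i, rfl⟩ := Subgroup.mem_zpowers_iff.1 hb
          exact (Commute.zpow_left (Subgroup.mem_centralizer_iff.1 z.2 w (hWN hw) : _).symm i)
        rw [hcm.mul_mul_mul_comm, hWsq w hw, one_mul]
        obtain ⟨i, rfl⟩ := Subgroup.mem_zpowers_iff.1 hb
        rw [← (Commute.refl (z : Y)).mul_zpow, show (z : Y) * z = 1 by
          rw [← sq, ← hz, pow_orderOf_eq_one], one_zpow]
      have hW4 : Nat.card W = 4 := by rw [Subgroup.card_map_of_injective N.subtype_injective]; exact hR.1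
      have heq := Subgroup.eq_of_le_of_card_ge (le_sup_left : W ≤ W ⊔ Subgroup.zpowers (z : Y))
        (by rw [hW4]; exact hY.card_le_four hsqs)
      have hzN : (z : Y) ∈ C ⊓ N := ⟨z.2, hWN (by
        rw [heq]; exact (le_sup_right : _ ≤ W ⊔ Subgroup.zpowers (z : Y)) (Subgroup.mem_zpowers _))⟩
      rw [hCi, Subgroup.mem_bot] at hzN
      rw [hzN, orderOf_one] at hz
      omega
    exact Or.inr ⟨N, hN, hsimp, hnaN, hdN, hCN⟩

/-- A group with a normal copy of `P` with trivial centralizer lies between `P` and its automorphism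
group. -/
theorem almost_of_normal {Y P : Type*} [Group Y] [Group P] (L : Subgroup Y) [L.Normal]
    (hC : Subgroup.centralizer (L : Set Y) = ⊥) (e : L ≃* P) :
    ∃ K : Subgroup (MulAut P), (MulAut.conj : P →* MulAut P).range ≤ K ∧ Nonempty (Y ≃* K) := by
  let Φ : Y →* MulAut P :=
    MonoidHom.mk' (fun y => e.symm.trans (((MulAut.conjNormal y : MulAut L)).trans e))
      fun a b => MulEquiv.ext fun x => by simp [map_mul]
  have hΦ : Function.Injective Φ := by
    refine (injective_iff_map_eq_one _).2 fun y hy => ?_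
    have hy' : y ∈ Subgroup.centralizer (L : Set Y) := by
      refine Subgroup.mem_centralizer_iff.2 fun l hl => ?_
      have h1 := DFunLike.congr_fun hy (e ⟨l, hl⟩)
      simp [Φ] at h1
      have h2 : y * l * y⁻¹ = l := congrArg Subtype.val h1
      exact (mul_inv_eq_iff_eq_mul.1 h2).symm
    rwa [hC, Subgroup.mem_bot] at hy'
  refine ⟨Φ.range, ?_, ⟨MonoidHom.ofInjective hΦ⟩⟩
  rintro _ ⟨x, rfl⟩
  refine ⟨(e.symm x : Y), MulEquiv.ext fun z => ?_⟩
  have h : (MulAut.conjNormal ((e.symm x : L) : Y) : MulAut L) (e.symm z) =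
      e.symm x * e.symm z * (e.symm x)⁻¹ := Subtype.ext rfl
  simp [Φ, h]

/-- A normal `A₄` with trivial centralizer in `A₄` or `S₄`. -/
theorem four_almost {Y : Type u} [Group Y]
    (h : Nonempty (Y ≃* alternatingGroup (Fin 4)) ∨ Nonempty (Y ≃* Equiv.Perm (Fin 4))) :
    ∃ (L : Subgroup Y) (_ : L.Normal), Subgroup.centralizer (L : Set Y) = ⊥ ∧
      Nonempty (L ≃* alternatingGroup (Fin 4)) := by
  rcases h with ⟨⟨f⟩⟩ | ⟨⟨f⟩⟩
  · refine ⟨⊤, inferInstance, ?_, ⟨Subgroup.topEquiv.trans f⟩⟩
    rw [eq_bot_iff]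
    intro y hy
    refine f.injective (Subtype.ext ?_)
    rw [map_one]
    refine Alternating.eq_one_of_commute_alt (by simp) fun x hx => ?_
    have h1 := congrArg (fun w => (f w : Equiv.Perm (Fin 4)))
      (Subgroup.mem_centralizer_iff.1 hy (f.symm ⟨x, hx⟩) (Subgroup.mem_top _))
    simpa using h1.symm
  · refine ⟨(alternatingGroup (Fin 4)).comap f.toMonoidHom, inferInstance, ?_, ⟨?_⟩⟩
    · rw [eq_bot_iff]
      intro y hy
      refine f.injective ?_
      rw [map_one]
      refine Alternating.eq_one_of_commute_alt (by simp) fun x hx => ?_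
      have h1 := congrArg f (Subgroup.mem_centralizer_iff.1 hy (f.symm x)
        (by show f (f.symm x) ∈ alternatingGroup (Fin 4); simpa using hx))
      simpa using h1.symm
    · exact MulEquiv.ofBijective (f.toMonoidHom.subgroupComap (alternatingGroup (Fin 4)))
        ⟨fun a b hab => Subtype.ext (f.injective (congrArg Subtype.val hab)),
          MonoidHom.subgroupComap_surjective_of_surjective _ _ f.surjective⟩

/-- The products of three disjoint transpositions of seven letters. -/
def threeTranspositions (v : ZMod 2 × ZMod 2 × ZMod 2) : Equiv.Perm (Fin 7) :=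
  (Equiv.swap 0 1) ^ v.1.val * (Equiv.swap 2 3) ^ v.2.1.val * (Equiv.swap 4 5) ^ v.2.2.val

theorem threeTranspositions_mul :
    ∀ a b, threeTranspositions a * threeTranspositions b = threeTranspositions (a + b) := by
  decide +kernel

theorem threeTranspositions_eq_one : ∀ a, threeTranspositions a = 1 → a = 0 := by
  decide +kernel

/-- `S₇` has no cyclic or dihedral Sylow 2-subgroup. -/
theorem not_sylowCD_perm_seven {Y : Type u} [Group Y] [Finite Y] (hY : SylowCD Y)
    (f : Y ≃* Equiv.Perm (Fin 7)) : False := by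
  let ψ : Multiplicative (ZMod 2 × ZMod 2 × ZMod 2) →* Y :=
    f.symm.toMonoidHom.comp (MonoidHom.mk' (fun v => threeTranspositions v.toAdd)
      fun a b => (threeTranspositions_mul a.toAdd b.toAdd).symm)
  have hψ : Function.Injective ψ := by
    refine (injective_iff_map_eq_one _).2 fun v hv => ?_
    have h1 : threeTranspositions v.toAdd = 1 := f.symm.injective (by rw [map_one]; exact hv)
    exact Multiplicative.toAdd.injective (threeTranspositions_eq_one _ h1)
  have hle := hY.card_le_four (E := ψ.range) (by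
    rintro _ ⟨v, rfl⟩
    rw [← map_mul, show v * v = 1 from Multiplicative.toAdd.injective (by
      show v.toAdd + v.toAdd = 0
      revert v; decide), map_one])
  rw [← Nat.card_congr (MonoidHom.ofInjective hψ).toEquiv, Nat.card_eq_fintype_card] at hle
  simp at hle

/-- A core-free group with dihedral Sylow 2-subgroups, given the Gorenstein–Walter proposition. -/
theorem propDihedralAlmost (hM : PropMain.{u}) : PropDihedralAlmost.{u} := by
  intro Q _ _ hO S n hn hS
  haveI : Fact (Nat.Prime 2) := ⟨Nat.prime_two⟩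
  by_cases hp : IsPGroup 2 Q
  · exact Or.inl hp
  refine Or.inr ?_
  have hQ : SylowCD Q := fun T => Or.inr ⟨n, hn, hS.map fun e => (Sylow.equiv T S).trans e⟩
  rcases socle_cases hQ hO hp with ⟨N, hNn, hN4, hC⟩ | ⟨N, hNn, hs, hna, hd, hC⟩
  · haveI := hNn
    obtain ⟨L, hLn, hLC, ⟨e⟩⟩ :=
      four_almost (LAEven57.FrobQuot.klein_ext N hN4.1 hN4.2 hC hp)
    haveI := hLn
    obtain ⟨e3⟩ := Cfsg.Agent.S0251.result (F := ZMod 3) (by decide)
    obtain ⟨K, hK, hiso⟩ := almost_of_normal L hLC (e.trans e3.symm)
    exact Or.inl ⟨ZMod 3, inferInstance, inferInstance, by decide, K, hK, hiso⟩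
  · haveI := hNn
    haveI := hs
    rcases known_of_propMain hM N hs hna hd with ⟨F, iF, iFF, hodd, -, ⟨e⟩⟩ | ⟨⟨e⟩⟩
    · obtain ⟨K, hK, hiso⟩ := almost_of_normal N hC e
      exact Or.inl ⟨F, iF, iFF, hodd, K, hK, hiso⟩
    · obtain ⟨K, hK, ⟨eK⟩⟩ := almost_of_normal N hC e
      let A : MulAut (alternatingGroup (Fin 7)) ≃* Equiv.Perm (Fin 7) :=
        (Alternating.autEquiv (α := Fin 7) (by simp) (by simp)).symm
      let ι : Q →* Equiv.Perm (Fin 7) := A.toMonoidHom.comp (K.subtype.comp eK.toMonoidHom)
      have hι : Function.Injective ι := A.injective.comp (Subtype.val_injective.comp eK.injective)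
      have hge : alternatingGroup (Fin 7) ≤ ι.range := by
        intro σ hσ
        refine ⟨eK.symm ⟨_, hK ⟨⟨σ, hσ⟩, rfl⟩⟩, ?_⟩
        show A ((eK (eK.symm ⟨MulAut.conj (⟨σ, hσ⟩ : alternatingGroup (Fin 7)), _⟩) :
          MulAut (alternatingGroup (Fin 7)))) = σ
        rw [MulEquiv.apply_symm_apply, MulEquiv.symm_apply_eq]
        rfl
      refine Or.inr ?_
      have hidx : ι.range.index = 1 ∨ ι.range.index = 2 := by
        have h1 := Subgroup.index_dvd_of_le hge
        rw [alternatingGroup.index_eq_two] at h1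
        exact (Nat.dvd_prime Nat.prime_two).1 h1
      rcases hidx with h1 | h2
      · exfalso
        rw [Subgroup.index_eq_one] at h1
        exact not_sylowCD_perm_seven hQ (MulEquiv.ofBijective ι ⟨hι, MonoidHom.range_eq_top.1 h1⟩)
      · exact ⟨(MonoidHom.ofInjective hι).trans
          (MulEquiv.subgroupCongr (Equiv.Perm.eq_alternatingGroup_of_index_eq_two h2))⟩

end Cfsg.Agent.Lib.PEmbRankOne
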