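import Cfsg.Agent.Lib.OddOrder.CyclicSylow
import Cfsg.Agent.Lib.Cores.Basic
import Cfsg.Agent.Lib.PGroups.UniqueInvolution
import Cfsg.Agent.Lib.PSolvable.Basic
import Cfsg.Prelude.Def_Amalgam
import Cfsg.Prelude.Def_CaseTheorems

/-!
# Groups generated by their p-elements with a Sylow p-subgroup of p-rank one

Modulo the p'-core such a group with cyclic Sylow p-subgroup is either that Sylow subgroup or a
non-abelian simple group.
-/

set_option autoImplicit false
set_option linter.style.haveILetI false
set_option linter.unusedSectionVars false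

open scoped commutatorElement

namespace Cfsg.Agent.Lib.PEmbRankOne

universe u

open Subgroup

variable {G : Type u} [Group G] [Finite G] {p : ℕ} [hp : Fact p.Prime]

/-- An element of `p`-power order and of order prime to `p` is trivial. -/
theorem eq_one_of_pow_of_coprime {H : Type*} [Group H] {x : H} {k n : ℕ} (hk : x ^ p ^ k = 1)
    (hn : n.Coprime p) (hx : x ^ n = 1) : x = 1 := by
  refine orderOf_eq_one_iff.1 (Nat.eq_one_of_dvd_coprimes ((hn.symm).pow_left k)
    (orderOf_dvd_of_pow_eq_one hk) (orderOf_dvd_of_pow_eq_one hx))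

/-- A normal subgroup containing a Sylow subgroup contains every element of `p`-power order. -/
theorem eq_top_of_sylow_le (hgen : Cfsg.pElementClosure p (⊤ : Subgroup G) = ⊤) (P : Sylow p G)
    {N : Subgroup G} [hN : N.Normal] (h : (P : Subgroup G) ≤ N) : N = ⊤ := by
  refine top_le_iff.1 (hgen ▸ (closure_le N).2 ?_)
  rintro x ⟨-, k, hk⟩
  have hx : IsPGroup p (zpowers x) := IsPGroup.of_card (n := k) (by rw [Nat.card_zpowers, hk])
  obtain ⟨Q, hQ⟩ := hx.exists_le_sylow
  obtain ⟨g, rfl⟩ := MulAction.exists_smul_eq G P Q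
  have h1 := hQ (mem_zpowers x)
  rw [Sylow.coe_subgroup_smul, mem_pointwise_smul_iff_inv_smul_mem] at h1
  have h2 := hN.conj_mem _ (h h1) g
  simpa [MulAut.smul_def, mul_assoc] using h2

/-- An element of the normalizer of a cyclic Sylow subgroup outside the centralizer gives an element
of order prime to `p` moving the Sylow subgroup fixed-point-freely. -/
theorem exists_move (hp2 : p ≠ 2) (P : Sylow p G) (hPc : IsCyclic P) {n : G}
    (hn : n ∈ normalizer ((P : Subgroup G) : Set G))
    (hnC : n ∉ centralizer ((P : Subgroup G) : Set G)) :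
    ∃ b ∈ zpowers n, (orderOf b).Coprime p ∧ ⁅(P : Subgroup G), zpowers b⁆ = (P : Subgroup G) ∧
      ∀ c ∈ (P : Subgroup G), Commute b c → c = 1 := by
  haveI := hPc
  obtain ⟨a, b, ha, hb, hab, hcomm, ⟨k, hk⟩, hbc⟩ :=
    Transfer.PResidual.exists_pPart_mul_pPrimePart (p := p) n (isOfFinOrder_of_finite n)
  have han : a ∈ normalizer ((P : Subgroup G) : Set G) := zpowers_le.2 hn ha
  have hbn : b ∈ normalizer ((P : Subgroup G) : Set G) := zpowers_le.2 hn hb
  have haP : a ∈ (P : Subgroup G) := by
    have haP' : IsPGroup p (zpowers a) := IsPGroup.of_card_dvd_pow (n := k)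
      (by rw [Nat.card_zpowers]; exact orderOf_dvd_of_pow_eq_one hk)
    have h1 := haP'.to_sup_of_normal_right' P.2 (fun x hx => zpowers_le.2 han hx)
    exact (P.is_maximal' h1 le_sup_right) ▸ mem_sup_left (mem_zpowers a)
  have hbC : b ∉ centralizer ((P : Subgroup G) : Set G) := fun h => hnC (by
    rw [← hab]
    refine mul_mem (mem_centralizer_iff.2 fun x hx => ?_) h
    exact congrArg Subtype.val (IsMulCommutative.is_comm.comm
      (⟨x, hx⟩ : (P : Subgroup G)) ⟨a, haP⟩))
  have hfix : ∀ c ∈ (P : Subgroup G), Commute b c → c = 1 := fun c hc hcb => by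
    by_contra hc1
    exact hbC (mem_centralizer_iff.2 fun x hx =>
      (OddOrder.UniqueAux.centralizes_cyclic_of_fixed hp2 hPc P.2 hbn hbc hc hc1 hcb x hx).eq.symm)
  refine ⟨b, hb, hbc, ?_, hfix⟩
  have hBn : zpowers b ≤ normalizer ((P : Subgroup G) : Set G) := zpowers_le.2 hbn
  obtain ⟨j, hj⟩ := IsPGroup.iff_card.1 P.2
  have hcop : (Nat.card (zpowers b)).Coprime (Nat.card (P : Subgroup G)) := by
    rw [Nat.card_zpowers, hj]
    exact hbc.pow_right j
  have h := Coprime.commutator_sup_centralizer hBn hcop (Or.inl inferInstance)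
  have hbot : (P : Subgroup G) ⊓ centralizer ((zpowers b : Subgroup G) : Set G) = ⊥ :=
    (eq_bot_iff_forall _).2 fun c hc =>
      hfix c hc.1 (mem_centralizer_iff.1 hc.2 b (mem_zpowers b))
  rwa [hbot, sup_bot_eq] at h

/-- Modulo its p'-core, a group generated by p-elements with cyclic Sylow p-subgroup is a p-group
or a non-abelian simple group. -/
theorem cyclic_dichotomy (hO : Cfsg.pPrimeCore p G = ⊥)
    (hgen : Cfsg.pElementClosure p (⊤ : Subgroup G) = ⊤) (P : Sylow p G) (hPc : IsCyclic P) :
    (P : Subgroup G) = ⊤ ∨ (p ≠ 2 ∧ IsSimpleGroup G ∧ ¬ IsMulCommutative G) := by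
  haveI := hPc
  by_cases hNC : normalizer ((P : Subgroup G) : Set G) ≤ centralizer ((P : Subgroup G) : Set G)
  · refine Or.inl ?_
    have hK := MonoidHom.ker_transferSylow_isComplement' P hNC
    set K := (MonoidHom.transferSylow P hNC).ker with hKdef
    have hKc : (Nat.card K).Coprime p := by
      rw [← hK.index_eq_card]
      exact (hp.out.coprime_iff_not_dvd.2 P.not_dvd_index).symm
    have hKbot : K = ⊥ := le_bot_iff.1 (hO ▸ Cores.le_pPrimeCore hKc)
    simpa [hKbot] using hK.sup_eq_top
  obtain ⟨n, hn, hnC⟩ := SetLike.not_le_iff_exists.1 hNC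
  have hp2 : p ≠ 2 := by
    rintro rfl
    refine hNC ?_
    by_cases h2 : 2 ∣ Nat.card G
    · refine IsCyclic.normalizer_le_centralizer (P := (P : Sylow 2 G)) ?_ hPc
      exact (Nat.minFac_eq_two_iff _).2 h2
    · have hbot : (P : Subgroup G) = ⊥ := eq_bot_of_card_eq _ (by
        obtain ⟨k, hk⟩ := IsPGroup.iff_card.1 P.2
        rcases Nat.eq_zero_or_pos k with h | h
        · rw [hk, h, pow_zero]
        · exact absurd ((dvd_pow_self 2 h.ne').trans (hk ▸ card_subgroup_dvd_card _)) h2)
      rw [hbot]
      intro x _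
      exact mem_centralizer_iff.2 fun y hy => by simp [mem_bot.1 hy]
  obtain ⟨b₀, -, -, -, hfix₀⟩ := exists_move hp2 P hPc hn hnC
  haveI : Nontrivial G := ⟨⟨n, 1, fun h => hnC (h ▸ one_mem _)⟩⟩
  have key : ∀ N : Subgroup G, N.Normal → N ≠ ⊥ → (P : Subgroup G) ≤ N := by
    intro N hNn hN
    haveI := hNn
    set M := N ⊔ (P : Subgroup G) with hM
    have hPM : (P : Subgroup G) ≤ M := le_sup_right
    have hNM : N ≤ M := le_sup_left
    have hmemN : ∀ x ∈ M, (orderOf x).Coprime p → x ∈ N := by
      intro x hx hxo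
      rw [hM, ← SetLike.mem_coe, normal_mul] at hx
      obtain ⟨y, hy, z, hz, rfl⟩ := hx
      obtain ⟨k, hk⟩ := P.2 ⟨z, hz⟩
      have hk' : z ^ p ^ k = 1 := congrArg Subtype.val hk
      have h1 : QuotientGroup.mk' N (y * z) = QuotientGroup.mk' N z := by
        rw [map_mul, QuotientGroup.mk'_apply N y, (QuotientGroup.eq_one_iff y).2 hy, one_mul]
      have h2 : QuotientGroup.mk' N (y * z) = 1 := by
        refine eq_one_of_pow_of_coprime (k := k) ?_ hxo (by
          rw [← map_pow, pow_orderOf_eq_one, map_one])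
        rw [h1, ← map_pow, hk', map_one]
      exact (QuotientGroup.eq_one_iff _).1 h2
    by_cases hMC : ∀ m ∈ M, m ∈ normalizer ((P : Subgroup G) : Set G) →
        m ∈ centralizer ((P : Subgroup G) : Set G)
    · -- `M` has a normal p-complement, which is trivial
      exfalso
      have hNC' : normalizer ((P.subtype hPM : Subgroup M) : Set M) ≤
          centralizer ((P.subtype hPM : Subgroup M) : Set M) := by
        intro m hm
        rw [Sylow.coe_subtype] at hm ⊢
        have hm' : (m : G) ∈ normalizer ((P : Subgroup G) : Set G) := by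
          rw [mem_normalizer_iff] at hm ⊢
          intro x
          constructor
          · intro hx
            exact (hm ⟨x, hPM hx⟩).1 hx
          · intro hx
            have hxM : x ∈ M := by
              have := mul_mem (mul_mem (inv_mem m.2) (hPM hx)) m.2
              simpa [mul_assoc] using this
            exact (hm ⟨x, hxM⟩).2 hx
        exact mem_centralizer_iff.2 fun x hx =>
          Subtype.ext (mem_centralizer_iff.1 (hMC m m.2 hm') x hx)
      set f := MonoidHom.transferSylow (P.subtype hPM) hNC' with hf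
      have hK := MonoidHom.ker_transferSylow_isComplement' (P.subtype hPM) hNC'
      have hKc : (Nat.card f.ker).Coprime p := by
        rw [← hK.index_eq_card]
        exact (hp.out.coprime_iff_not_dvd.2 (P.subtype hPM).not_dvd_index).symm
      have hKmem : ∀ x : M, (orderOf (x : G)).Coprime p → x ∈ f.ker := by
        intro x hx
        obtain ⟨k, hk⟩ := (P.subtype hPM).2 (f x)
        refine eq_one_of_pow_of_coprime hk hx ?_
        rw [← map_pow, show x ^ orderOf (x : G) = 1 from
          Subtype.ext (by rw [SubmonoidClass.coe_pow]; exact pow_orderOf_eq_one _), map_one]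
      have hKN : f.ker.map M.subtype ≤ N := by
        rintro _ ⟨x, hx, rfl⟩
        refine hmemN _ x.2 (Nat.Coprime.of_dvd_left ?_ hKc)
        exact (orderOf_coe x).symm ▸ orderOf_dvd_natCard _ hx
      haveI : (f.ker.map M.subtype).Normal := ⟨by
        rintro _ ⟨x, hx, rfl⟩ g
        have hmem : g * M.subtype x * g⁻¹ ∈ M := hNM (hNn.conj_mem _ (hKN ⟨x, hx, rfl⟩) g)
        refine ⟨⟨_, hmem⟩, hKmem _ ?_, rfl⟩
        rw [show ((⟨_, hmem⟩ : M) : G) = MulAut.conj g (x : G) from rfl, MulEquiv.orderOf_eq]
        exact Nat.Coprime.of_dvd_left ((orderOf_coe x).symm ▸ orderOf_dvd_natCard _ hx) hKc⟩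
      have hbot : f.ker = ⊥ := (map_eq_bot_iff_of_injective _ M.subtype_injective).1
        (le_bot_iff.1 (hO ▸ Cores.le_pPrimeCore
          (by rw [card_map_of_injective M.subtype_injective]; exact hKc)))
      have htop : (P.subtype hPM : Subgroup M) = ⊤ := by
        have h1 := hK.sup_eq_top
        rw [← hf, hbot, bot_sup_eq] at h1
        exact h1
      have hNP : N ≤ (P : Subgroup G) := fun x hx => by
        have : (⟨x, hNM hx⟩ : M) ∈ (P.subtype hPM : Subgroup M) := htop ▸ mem_top _
        rwa [Sylow.coe_subtype] at this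
      have hCtop : centralizer (N : Set G) = ⊤ := by
        haveI : (centralizer (N : Set G)).Normal := inferInstance
        refine eq_top_of_sylow_le hgen P fun x hx => mem_centralizer_iff.2 fun y hy => ?_
        exact congrArg Subtype.val (IsMulCommutative.is_comm.comm
          (⟨y, hNP hy⟩ : (P : Subgroup G)) ⟨x, hx⟩)
      obtain ⟨z, hz, hz1⟩ := (bot_or_exists_ne_one N).resolve_left hN
      exact hz1 (hfix₀ z (hNP hz)
        (mem_centralizer_iff.1 (hCtop ▸ mem_top b₀) z hz).symm)
    · push Not at hMC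
      obtain ⟨m, hm, hmN, hmC⟩ := hMC
      obtain ⟨b, hb, hbc, hcomm, -⟩ := exists_move hp2 P hPc hmN hmC
      rw [← hcomm]
      exact (commutator_mono le_rfl (zpowers_le.2 (hmemN b (zpowers_le.2 hm hb) hbc))).trans
        (commutator_le_right _ _)
  refine Or.inr ⟨hp2, ⟨fun N hNn => ?_⟩, fun hc => hnC (mem_centralizer_iff.2 fun x _ => ?_)⟩
  · rcases eq_or_ne N ⊥ with h | h
    · exact Or.inl h
    · haveI := hNn
      exact Or.inr (eq_top_of_sylow_le hgen P (key N hNn h))
  · exact hc.is_comm.comm x n

end Cfsg.Agent.Lib.PEmbRankOne
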