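import Cfsg.Agent.Lib.PEmbRankOne.Cyclic
import Cfsg.Agent.S0201
import Cfsg.Agent.Lib.Inv59.QuatQuotient
import Cfsg.Prelude.Def_PLocal

/-!
# p-rank one: the trichotomy of S2778

The case of quaternion Sylow 2-subgroups uses the Gorenstein–Walter classification in the form
`PropDihedralAlmost`.
-/

set_option autoImplicit false
set_option linter.style.haveILetI false
set_option linter.unusedSectionVars false

open scoped commutatorElement

namespace Cfsg.Agent.Lib.PEmbRankOne

universe u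

open Subgroup

/-- A group with trivial odd core and dihedral Sylow 2-subgroups is a 2-group, lies between some
`PSL(2,q)` and its automorphism group, or is `A₇`. -/
def PropDihedralAlmost : Prop :=
  ∀ (Q : Type u) [Group Q] [Finite Q], Cfsg.pPrimeCore 2 Q = ⊥ →
    ∀ (S : Sylow 2 Q) (n : ℕ), 2 ≤ n → Nonempty ((S : Subgroup Q) ≃* DihedralGroup n) →
      IsPGroup 2 Q ∨
      (∃ (F : Type) (_ : Field F) (_ : Fintype F), Odd (Fintype.card F) ∧
        ∃ K : Subgroup (MulAut (Matrix.ProjectiveSpecialLinearGroup (Fin 2) F)),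
          (MulAut.conj : Matrix.ProjectiveSpecialLinearGroup (Fin 2) F →*
            MulAut (Matrix.ProjectiveSpecialLinearGroup (Fin 2) F)).range ≤ K ∧
          Nonempty (Q ≃* ↥K)) ∨
      Nonempty (Q ≃* alternatingGroup (Fin 7))

/-- The map from the quaternion group onto the dihedral group. -/
def quatToDihedral (n : ℕ) : QuaternionGroup n →* DihedralGroup n where
  toFun
    | .a i => .r (ZMod.castHom (dvd_mul_left n 2) (ZMod n) i)
    | .xa i => .sr (ZMod.castHom (dvd_mul_left n 2) (ZMod n) i)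
  map_one' := by
    show DihedralGroup.r (ZMod.castHom (dvd_mul_left n 2) (ZMod n) 0) = 1
    rw [map_zero]; rfl
  map_mul' := by
    rintro (i | i) (j | j) <;>
      simp only [QuaternionGroup.a_mul_a, QuaternionGroup.a_mul_xa, QuaternionGroup.xa_mul_a,
        QuaternionGroup.xa_mul_xa, DihedralGroup.r_mul_r, DihedralGroup.r_mul_sr,
        DihedralGroup.sr_mul_r, DihedralGroup.sr_mul_sr, map_add, map_sub, map_natCast,
        ZMod.natCast_self, zero_add]

theorem quatToDihedral_surjective (n : ℕ) : Function.Surjective (quatToDihedral n) := by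
  rintro (i | i)
  · obtain ⟨j, rfl⟩ := ZMod.castHom_surjective (dvd_mul_left n 2) i
    exact ⟨.a j, rfl⟩
  · obtain ⟨j, rfl⟩ := ZMod.castHom_surjective (dvd_mul_left n 2) i
    exact ⟨.xa j, rfl⟩

theorem quatToDihedral_eq_one {n : ℕ} [NeZero n] (q : QuaternionGroup n) :
    quatToDihedral n q = 1 ↔ q ^ 2 = 1 := by
  rcases q with i | i
  · show DihedralGroup.r _ = DihedralGroup.r 0 ↔ _
    rw [sq, QuaternionGroup.a_mul_a, QuaternionGroup.one_def, DihedralGroup.r.injEq,
      QuaternionGroup.a.injEq]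
    obtain ⟨k, rfl⟩ := ZMod.natCast_zmod_surjective i
    rw [map_natCast, ← Nat.cast_add, ZMod.natCast_eq_zero_iff, ZMod.natCast_eq_zero_iff, ← two_mul]
    exact (Nat.mul_dvd_mul_iff_left two_pos).symm
  · refine iff_of_false (fun h => by cases h) fun h => ?_
    rw [QuaternionGroup.xa_sq, QuaternionGroup.one_def, QuaternionGroup.a.injEq,
      ZMod.natCast_eq_zero_iff] at h
    have := Nat.le_of_dvd (Nat.pos_of_ne_zero (NeZero.ne n)) h
    have := NeZero.ne n
    omega

variable {G : Type u} [Group G] [Finite G] {p : ℕ} [hp : Fact p.Prime]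

theorem unique_prime_of_rank_one {S : Type*} [Group S] [Finite S] (hS : IsPGroup p S)
    (hr : Cfsg.PRankLE p 1 S) (x y : S) (hx : orderOf x = p) (hy : orderOf y = p) :
    y ∈ zpowers x := by
  haveI : Nontrivial S := ⟨⟨x, 1, fun h => by
    rw [h, orderOf_one] at hx; exact hp.out.one_lt.ne hx⟩⟩
  haveI := hS.center_nontrivial
  obtain ⟨c, hc⟩ := exists_prime_orderOf_dvd_card' (G := center S) p (by
    obtain ⟨k, hk, hk'⟩ := (hS.to_subgroup _).nontrivial_iff_card.1 this
    rw [hk']; exact dvd_pow_self p hk.ne')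
  have hco : orderOf (c : S) = p := by rw [orderOf_coe, hc]
  have key : ∀ w : S, orderOf w = p → zpowers w = zpowers (c : S) := by
    intro w hw
    set A : Subgroup S := closure {w, (c : S)}
    haveI hA : IsMulCommutative A := isMulCommutative_closure fun a ha b hb => by
      have hwc : w * c = c * w := mem_center_iff.1 c.2 w
      rcases ha with rfl | rfl <;> rcases hb with rfl | rfl
      · rfl
      · exact hwc
      · exact hwc.symm
      · rfl
    have hexp : ∀ a ∈ A, a ^ p = 1 := by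
      intro a ha
      induction ha using closure_induction with
      | mem z hz =>
        rcases hz with rfl | rfl
        · exact hw ▸ pow_orderOf_eq_one _
        · exact hco ▸ pow_orderOf_eq_one _
      | one => exact one_pow p
      | mul a b ha hb h1 h2 =>
        have hab : Commute a b := congrArg Subtype.val (hA.is_comm.comm ⟨a, ha⟩ ⟨b, hb⟩)
        rw [hab.mul_pow, h1, h2, one_mul]
      | inv a ha h1 => rw [inv_pow, h1, inv_one]
    have hcard : Nat.card A ≤ p := (hr A hA hexp).trans_eq (pow_one p)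
    have hwA : zpowers w = A := eq_of_le_of_card_ge (zpowers_le.2 (subset_closure (Or.inl rfl)))
      (by rwa [Nat.card_zpowers, hw])
    have hcA : zpowers (c : S) = A := eq_of_le_of_card_ge
      (zpowers_le.2 (subset_closure (Or.inr rfl))) (by rwa [Nat.card_zpowers, hco])
    rw [hwA, hcA]
  rw [key x hx, ← key y hy]
  exact mem_zpowers y

/-- `S ⊔ O_{p'}(G) = G` makes `G` p-solvable. -/
theorem isPSolvable_of_sup_eq_top (S : Sylow p G)
    (h : (S : Subgroup G) ⊔ Cfsg.pPrimeCore p G = ⊤) : Cfsg.IsPSolvable p G := by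
  refine PSolvable.isPSolvable_of_extension (Cfsg.pPrimeCore p G)
    (PSolvable.isPSolvable_of_coprime (Cores.pPrimeCore_coprime p))
    (PSolvable.isPSolvable_of_isPGroup ?_)
  intro x
  obtain ⟨g, rfl⟩ := QuotientGroup.mk'_surjective (Cfsg.pPrimeCore p G) x
  have hg : g ∈ (S : Subgroup G) ⊔ Cfsg.pPrimeCore p G := h ▸ mem_top g
  rw [← SetLike.mem_coe, mul_normal] at hg
  obtain ⟨s, hs, o, ho, rfl⟩ := hg
  obtain ⟨k, hk⟩ := S.2 ⟨s, hs⟩
  refine ⟨k, ?_⟩
  rw [map_mul, QuotientGroup.mk'_apply _ o, (QuotientGroup.eq_one_iff o).2 ho, mul_one, ← map_pow,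
    show s ^ p ^ k = 1 from congrArg Subtype.val hk, map_one]

theorem eq_one_of_mem_core {S : Sylow p G} {x : G} (hx : x ∈ (S : Subgroup G))
    (hxO : x ∈ Cfsg.pPrimeCore p G) : x = 1 := by
  obtain ⟨k, hk⟩ := S.2 ⟨x, hx⟩
  exact eq_one_of_pow_of_coprime (congrArg Subtype.val hk : x ^ p ^ k = 1)
    (Cores.pPrimeCore_coprime p) (congrArg Subtype.val
      (pow_card_eq_one' (x := (⟨x, hxO⟩ : Cfsg.pPrimeCore p G))))

theorem gen_map {H : Type*} [Group H] (f : G →* H) (hf : Function.Surjective f)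
    (hgen : Cfsg.pElementClosure p (⊤ : Subgroup G) = ⊤) :
    Cfsg.pElementClosure p (⊤ : Subgroup H) = ⊤ := by
  refine top_le_iff.1 ?_
  have h1 : (Cfsg.pElementClosure p (⊤ : Subgroup G)).map f = ⊤ := by
    rw [hgen, map_top_of_surjective f hf]
  refine h1.ge.trans ?_
  rw [Cfsg.pElementClosure, Cfsg.pElementClosure, MonoidHom.map_closure]
  refine closure_mono ?_
  rintro _ ⟨x, ⟨-, k, hk⟩, rfl⟩
  obtain ⟨j, -, hj⟩ := (Nat.dvd_prime_pow hp.out).1 (hk ▸ orderOf_map_dvd f x)
  exact ⟨mem_top _, j, hj⟩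

/-- The cyclic case. -/
theorem cyclic_case (hgen : Cfsg.pElementClosure p (⊤ : Subgroup G) = ⊤) (S : Sylow p G)
    (hS : IsCyclic S) :
    (p ≠ 2 ∧ commutator G = ⊤ ∧ IsSimpleGroup (G ⧸ Cfsg.pPrimeCore p G) ∧
        ¬ IsMulCommutative (G ⧸ Cfsg.pPrimeCore p G)) ∨
      (S : Subgroup G) ⊔ Cfsg.pPrimeCore p G = ⊤ := by
  set O := Cfsg.pPrimeCore p G with hO
  set π := QuotientGroup.mk' O with hπdef
  have hπ : Function.Surjective π := QuotientGroup.mk'_surjective O
  haveI := hS
  have hSc : IsCyclic (S.mapSurjective hπ : Subgroup (G ⧸ O)) := by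
    rw [Sylow.coe_mapSurjective]
    exact isCyclic_of_surjective _ (MonoidHom.subgroupMap_surjective π (S : Subgroup G))
  rcases cyclic_dichotomy (Cores.pPrimeCore_quotient_pPrimeCore p) (gen_map π hπ hgen)
    (S.mapSurjective hπ) hSc with htop | ⟨hp2, hsimp, hnc⟩
  · refine Or.inr ?_
    rw [Sylow.coe_mapSurjective] at htop
    have := congrArg (Subgroup.comap π) htop
    rwa [comap_map_eq, QuotientGroup.ker_mk', comap_top] at this
  refine Or.inl ⟨hp2, ?_, hsimp, hnc⟩
  have hmap : (commutator G).map π = ⊤ := by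
    haveI : ((commutator G).map π).Normal := Normal.map inferInstance _ hπ
    refine (hsimp.eq_bot_or_eq_top_of_normal _ inferInstance).resolve_left fun hbot => hnc ⟨⟨?_⟩⟩
    intro a b
    obtain ⟨x, rfl⟩ := hπ a
    obtain ⟨y, rfl⟩ := hπ b
    have hxy : π ⁅x, y⁆ = 1 :=
      mem_bot.1 (hbot ▸ mem_map_of_mem π (commutator_mem_commutator (mem_top x) (mem_top y)))
    rw [map_commutatorElement] at hxy
    exact commutatorElement_eq_one_iff_mul_comm.1 hxy
  set ρ := QuotientGroup.mk' (commutator G) with hρ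
  have hall : ∀ g : G, ρ g ^ Nat.card O = 1 := by
    intro g
    have hg : π g ∈ (commutator G).map π := hmap ▸ mem_top _
    obtain ⟨c, hc, hcg⟩ := hg
    have hd : c⁻¹ * g ∈ O := (QuotientGroup.eq).1 hcg
    have h1 : ρ g = ρ (c⁻¹ * g) := by
      rw [map_mul, map_inv, hρ, QuotientGroup.mk'_apply _ c, (QuotientGroup.eq_one_iff c).2 hc,
        inv_one, one_mul]
    rw [h1, ← map_pow, show (c⁻¹ * g) ^ Nat.card O = 1 from congrArg Subtype.val
      (pow_card_eq_one' (x := (⟨_, hd⟩ : O))), map_one]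
  refine top_le_iff.1 (hgen ▸ (closure_le _).2 ?_)
  rintro x ⟨-, k, hk⟩
  refine (QuotientGroup.eq_one_iff x).1 ?_
  exact eq_one_of_pow_of_coprime (k := k)
    (show ρ x ^ p ^ k = 1 by rw [← map_pow ρ, ← hk, pow_orderOf_eq_one, map_one])
    (Cores.pPrimeCore_coprime p) (hall x)

/-- With centre of order two and trivial odd core, the central quotient has trivial odd core. -/
theorem core_central_quotient (hO : Cfsg.pPrimeCore 2 G = ⊥)
    (hZ : Nat.card (center G) = 2) : Cfsg.pPrimeCore 2 (G ⧸ center G) = ⊥ := by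
  set π := QuotientGroup.mk' (center G)
  set N := Cfsg.pPrimeCore 2 (G ⧸ center G)
  haveI : N.Normal := inferInstance
  have hNodd : ¬ 2 ∣ Nat.card N := Cores.not_dvd_card_pPrimeCore 2
  set M := N.comap π with hM
  have hZM : center G ≤ M := fun z hz => by
    rw [hM, mem_comap, QuotientGroup.mk'_apply, (QuotientGroup.eq_one_iff z).2 hz]
    exact one_mem _
  -- odd elements of `M` form a normal subgroup of odd order
  set n := Nat.card N
  have hn : n.Coprime 2 := (Nat.prime_two.coprime_iff_not_dvd.2 hNodd).symm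
  have hpow : ∀ m ∈ M, m ^ n ∈ center G := fun m hm => by
    refine (QuotientGroup.eq_one_iff _).1 ?_
    rw [QuotientGroup.mk_pow]
    exact congrArg Subtype.val (pow_card_eq_one' (x := (⟨_, hm⟩ : N)))
  have hsq : ∀ z ∈ center G, z ^ 2 = 1 := fun z hz => by
    rw [← hZ]; exact congrArg Subtype.val (pow_card_eq_one' (x := (⟨z, hz⟩ : center G)))
  have hMcomm : ∀ a ∈ M, ∀ b ∈ M, (a * b) ^ (2 * n) = 1 := fun a ha b hb => by
    rw [mul_comm 2 n, pow_mul]
    exact hsq _ (hpow _ (mul_mem ha hb))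
  have hker : (center G).subgroupOf M ≤ center M := fun z hz =>
    mem_center_iff.2 fun w => Subtype.ext (mem_center_iff.1 hz (w : G))
  obtain ⟨K, hK⟩ := exists_left_complement'_of_coprime (N := (center G).subgroupOf M) (by
    rw [Nat.card_congr (subgroupOfEquivOfLe hZM).toEquiv, hZ]
    have h1 : ((center G).subgroupOf M).index = n := by
      have h3 := relIndex_comap (⊥ : Subgroup (G ⧸ center G)) π M
      rw [MonoidHom.comap_bot, QuotientGroup.ker_mk', map_comap_eq_self_of_surjective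
        (QuotientGroup.mk'_surjective _), relIndex_bot_left] at h3
      exact h3
    rw [h1]
    exact hn.symm)
  have hKodd : (Nat.card K).Coprime 2 := by
    rw [← hK.index_eq_card]
    have h3 := relIndex_comap (⊥ : Subgroup (G ⧸ center G)) π M
    rw [MonoidHom.comap_bot, QuotientGroup.ker_mk', map_comap_eq_self_of_surjective
      (QuotientGroup.mk'_surjective _), relIndex_bot_left] at h3
    show ((center G).relIndex M).Coprime 2
    rw [h3]; exact hn
  have hmem : ∀ m : M, (orderOf m).Coprime 2 → m ∈ K := by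
    intro m hm
    have hmz : m ∈ ((K ⊔ (center G).subgroupOf M : Subgroup M) : Set M) :=
      hK.sup_eq_top ▸ mem_top m
    haveI : ((center G).subgroupOf M).Normal := inferInstance
    rw [mul_normal] at hmz
    obtain ⟨k, hk, z, hz, rfl⟩ := hmz
    have hkz : Commute k z := mem_center_iff.1 (hker hz) k
    set c := Nat.card K * orderOf (k * z) with hc
    have hcodd : c.Coprime 2 := hKodd.mul_left hm
    have h1 : k ^ c = 1 := by
      rw [hc, pow_mul, show k ^ Nat.card K = 1 from congrArg Subtype.val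
        (pow_card_eq_one' (x := (⟨k, hk⟩ : K))), one_pow]
    have h2 : z ^ c = 1 := by
      have h4 : (k * z) ^ c = 1 := by rw [hc, pow_mul', pow_orderOf_eq_one, one_pow]
      rwa [hkz.mul_pow, h1, one_mul] at h4
    have h5 : z = 1 := eq_one_of_pow_of_coprime (k := 1) (p := 2)
      (by rw [pow_one]; exact Subtype.ext (hsq (z : G) hz)) hcodd h2
    simpa [h5] using hk
  haveI : (K.map M.subtype).Normal := ⟨by
    rintro _ ⟨x, hx, rfl⟩ g
    refine ⟨⟨g * (x : G) * g⁻¹, (inferInstance : M.Normal).conj_mem _ x.2 g⟩, hmem _ ?_, rfl⟩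
    rw [← orderOf_coe]
    show (orderOf (MulAut.conj g (x : G))).Coprime 2
    rw [MulEquiv.orderOf_eq, orderOf_coe]
    exact Nat.Coprime.of_dvd_left (orderOf_dvd_natCard _ hx) hKodd⟩
  have hKbot : K = ⊥ := (map_eq_bot_iff_of_injective _ M.subtype_injective).1
    (le_bot_iff.1 (hO ▸ Cores.le_pPrimeCore
      (by rw [card_map_of_injective M.subtype_injective]; exact hKodd)))
  have htop := hK.sup_eq_top
  rw [hKbot, bot_sup_eq, subgroupOf_eq_top] at htop
  refine le_bot_iff.1 ?_
  intro x hx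
  obtain ⟨g, rfl⟩ := QuotientGroup.mk'_surjective (center G) x
  exact (QuotientGroup.eq_one_iff g).2 (htop hx)

/-- The quaternion case. -/
theorem quaternion_case (hP : PropDihedralAlmost.{u}) (S : Sylow 2 G) (m : ℕ) (hm : 1 ≤ m)
    (e : (S : Subgroup G) ≃* QuaternionGroup (2 ^ m)) :
    (S : Subgroup G) ⊔ Cfsg.pPrimeCore 2 G = ⊤ ∨
    ∃ (N : Subgroup G) (_ : N.Normal), N = Cfsg.omegaOne 2 (S : Subgroup G) ⊔ Cfsg.pPrimeCore 2 G ∧
      ((∃ (F : Type) (_ : Field F) (_ : Fintype F), Odd (Fintype.card F) ∧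
        ∃ K : Subgroup (MulAut (Matrix.ProjectiveSpecialLinearGroup (Fin 2) F)),
          (MulAut.conj : Matrix.ProjectiveSpecialLinearGroup (Fin 2) F →*
            MulAut (Matrix.ProjectiveSpecialLinearGroup (Fin 2) F)).range ≤ K ∧
          Nonempty (G ⧸ N ≃* ↥K)) ∨ Nonempty (G ⧸ N ≃* alternatingGroup (Fin 7))) := by
  set O := Cfsg.pPrimeCore 2 G with hO
  set π := QuotientGroup.mk' O with hπdef
  have hπ : Function.Surjective π := QuotientGroup.mk'_surjective O
  set S₁ := S.mapSurjective hπ with hS₁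
  have hinj : Function.Injective (π.subgroupMap (S : Subgroup G)) := by
    refine (injective_iff_map_eq_one _).2 fun x hx => Subtype.ext (eq_one_of_mem_core x.2 ?_)
    exact (QuotientGroup.eq_one_iff _).1 (congrArg Subtype.val hx)
  let e₀ : (S : Subgroup G) ≃* ((S : Subgroup G).map π : Subgroup (G ⧸ O)) :=
    MulEquiv.ofBijective _ ⟨hinj, MonoidHom.subgroupMap_surjective π _⟩
  let e₁ : (S₁ : Subgroup (G ⧸ O)) ≃* QuaternionGroup (2 ^ m) :=
    (MulEquiv.subgroupCongr (Sylow.coe_mapSurjective hπ S)).trans (e₀.symm.trans e)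
  obtain ⟨m', rfl⟩ : ∃ m', m = m' + 1 := ⟨m - 1, (Nat.sub_add_cancel hm).symm⟩
  have hZ : Nat.card (center (G ⧸ O)) = 2 :=
    Cfsg.Agent.S0201.result S₁ m' e₁ fun N hN hodd => by
      haveI := hN
      refine le_bot_iff.1 ((Cores.le_pPrimeCore (p := 2) ?_).trans_eq
        (Cores.pPrimeCore_quotient_pPrimeCore 2))
      exact hodd.coprime_two_right
  set ψ := (QuotientGroup.mk' (center (G ⧸ O))).comp π with hψdef
  have hψ : Function.Surjective ψ := (QuotientGroup.mk'_surjective _).comp hπ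
  set N := ψ.ker with hN
  have hNeq : ∀ g, g ∈ N ↔ π g ∈ center (G ⧸ O) := fun g => QuotientGroup.eq_one_iff (π g)
  have hsq : ∀ z ∈ center (G ⧸ O), z ^ 2 = 1 := fun z hz => by
    have h : z ^ Nat.card (center (G ⧸ O)) = 1 :=
      congrArg Subtype.val (pow_card_eq_one' (x := (⟨z, hz⟩ : center (G ⧸ O))))
    rwa [hZ] at h
  have hSN : ∀ x : (S : Subgroup G), (x : G) ∈ N ↔ x ^ 2 = 1 := by
    intro x
    constructor
    · intro hx
      refine hinj (Subtype.ext ?_)
      rw [map_one]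
      show π ((x ^ 2 : (S : Subgroup G)) : G) = 1
      rw [SubmonoidClass.coe_pow, map_pow]
      exact hsq _ ((hNeq _).1 hx)
    · intro hx
      rcases eq_or_ne x 1 with rfl | hx1
      · exact one_mem N
      obtain ⟨z, hz, hz1⟩ := (bot_or_exists_ne_one (center (G ⧸ O))).resolve_left
        (fun h => by rw [h, card_bot] at hZ; omega)
      have hzS : z ∈ (S₁ : Subgroup (G ⧸ O)) := by
        have hZp : IsPGroup 2 (center (G ⧸ O)) := IsPGroup.of_card (n := 1) (by rw [hZ, pow_one])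
        exact (Cores.le_pCore hZp).trans (Cores.pCore_le_sylow S₁) hz
      have hxS : π (x : G) ∈ (S₁ : Subgroup (G ⧸ O)) := by
        rw [Sylow.coe_mapSurjective]; exact mem_map_of_mem π x.2
      have hord : ∀ (w : G ⧸ O) (hw : w ∈ (S₁ : Subgroup (G ⧸ O))), w ^ 2 = 1 → w ≠ 1 →
          e₁ ⟨w, hw⟩ = QuaternionGroup.a ((2 ^ (m' + 1) : ℕ) : ZMod (2 * 2 ^ (m' + 1))) := by
        intro w hw hw2 hw1
        refine Inv59.QuatQuotient.eq_of_orderOf_two _ ?_
        rw [MulEquiv.orderOf_eq]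
        exact orderOf_eq_prime (Subtype.ext hw2) (fun h => hw1 (congrArg Subtype.val h))
      have hx1' : π (x : G) ≠ 1 := fun h =>
        hx1 (hinj (Subtype.ext (by rw [map_one]; exact h)))
      have hx2 : π (x : G) ^ 2 = 1 := by
        rw [← map_pow, show (x : G) ^ 2 = 1 from congrArg Subtype.val hx, map_one]
      have heq := e₁.injective
        ((hord _ hxS hx2 hx1').trans (hord z hzS (hsq z hz) hz1).symm)
      exact (hNeq _).2 (by rw [show π (x : G) = z from congrArg Subtype.val heq]; exact hz)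
  have hNdef : N = Cfsg.omegaOne 2 (S : Subgroup G) ⊔ O := by
    refine le_antisymm (fun g hg => ?_) (sup_le ((closure_le N).2 ?_) fun g hg => ?_)
    · have hgS : π g ∈ (S₁ : Subgroup (G ⧸ O)) := by
        have hZp : IsPGroup 2 (center (G ⧸ O)) := IsPGroup.of_card (n := 1) (by rw [hZ, pow_one])
        exact (Cores.le_pCore hZp).trans (Cores.pCore_le_sylow S₁) ((hNeq g).1 hg)
      rw [Sylow.coe_mapSurjective] at hgS
      obtain ⟨s, hs, hsg⟩ := hgS
      have hsN : s ∈ N := (hNeq s).2 (hsg ▸ (hNeq g).1 hg)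
      have hd : s⁻¹ * g ∈ O := (QuotientGroup.eq).1 hsg
      have hs' : s ∈ Cfsg.omegaOne 2 (S : Subgroup G) :=
        subset_closure ⟨hs, congrArg Subtype.val ((hSN ⟨s, hs⟩).1 hsN)⟩
      have := mul_mem (mem_sup_left hs' : s ∈ Cfsg.omegaOne 2 (S : Subgroup G) ⊔ O)
        (mem_sup_right hd)
      rwa [mul_inv_cancel_left] at this
    · rintro g ⟨hgS, hg2⟩
      exact (hSN ⟨g, hgS⟩).2 (Subtype.ext hg2)
    · refine (hNeq g).2 ?_
      rw [hπdef, QuotientGroup.mk'_apply, (QuotientGroup.eq_one_iff g).2 hg]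
      exact one_mem _
  -- the Sylow subgroup of the quotient is dihedral
  set f₁ := ψ.subgroupMap (S : Subgroup G) with hf₁
  set f₂ := (quatToDihedral (2 ^ (m' + 1))).comp e.toMonoidHom with hf₂
  haveI : NeZero (2 ^ (m' + 1)) := ⟨by positivity⟩
  have hker : f₁.ker = f₂.ker := by
    ext x
    rw [MonoidHom.mem_ker, MonoidHom.mem_ker, hf₂, MonoidHom.comp_apply, quatToDihedral_eq_one,
      MulEquiv.coe_toMonoidHom, ← map_pow, MulEquiv.map_eq_one_iff, ← hSN, hN, MonoidHom.mem_ker]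
    exact ⟨fun h => congrArg Subtype.val h, fun h => Subtype.ext h⟩
  let eD : ((S : Subgroup G).map ψ : Subgroup _) ≃* DihedralGroup (2 ^ (m' + 1)) :=
    ((QuotientGroup.quotientKerEquivOfSurjective f₁
      (MonoidHom.subgroupMap_surjective ψ _)).symm.trans
      (QuotientGroup.quotientMulEquivOfEq hker)).trans
      (QuotientGroup.quotientKerEquivOfSurjective f₂
        ((quatToDihedral_surjective _).comp e.surjective))
  rcases hP _ (core_central_quotient (Cores.pPrimeCore_quotient_pPrimeCore 2) hZ)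
      (S.mapSurjective hψ) (2 ^ (m' + 1)) (Nat.le_self_pow (Nat.succ_ne_zero m') 2)
      ⟨(MulEquiv.subgroupCongr (Sylow.coe_mapSurjective hψ S)).trans eD⟩ with
    h2 | ⟨F, iF, iFF, hodd, K, hK, ⟨eK⟩⟩ | h7
  · refine Or.inl ?_
    have hG1 : IsPGroup 2 (G ⧸ O) := by
      intro x
      obtain ⟨k, hk⟩ := h2 (QuotientGroup.mk' (center (G ⧸ O)) x)
      rw [← map_pow] at hk
      exact ⟨k + 1, by rw [pow_succ, pow_mul]; exact hsq _ ((QuotientGroup.eq_one_iff _).1 hk)⟩
    have htop : (S₁ : Subgroup (G ⧸ O)) = ⊤ :=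
      (S₁.is_maximal' (hG1.to_subgroup ⊤) le_top).symm
    rw [Sylow.coe_mapSurjective] at htop
    have := congrArg (Subgroup.comap π) htop
    rwa [comap_map_eq, QuotientGroup.ker_mk', comap_top] at this
  · exact Or.inr ⟨N, inferInstance, hNdef, Or.inl ⟨F, iF, iFF, hodd, K, hK,
      ⟨(QuotientGroup.quotientKerEquivOfSurjective ψ hψ).trans eK⟩⟩⟩
  · obtain ⟨eA⟩ := h7
    exact Or.inr ⟨N, inferInstance, hNdef, Or.inr
      ⟨(QuotientGroup.quotientKerEquivOfSurjective ψ hψ).trans eA⟩⟩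

/-- S2778, given the classification of groups with dihedral Sylow 2-subgroups. -/
theorem structure_of_prop (hP : PropDihedralAlmost.{u}) {p : ℕ} [Fact p.Prime]
    (hgen : Cfsg.pElementClosure p (⊤ : Subgroup G) = ⊤) (S : Sylow p G)
    (hr : Cfsg.PRankLE p 1 ↥(S : Subgroup G)) :
    (p ≠ 2 ∧ IsCyclic ↥(S : Subgroup G) ∧ commutator G = ⊤ ∧
        IsSimpleGroup (G ⧸ Cfsg.pPrimeCore p G) ∧ ¬ IsMulCommutative (G ⧸ Cfsg.pPrimeCore p G)) ∨
      ((S : Subgroup G) ⊔ Cfsg.pPrimeCore p G = ⊤ ∧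
        (IsCyclic ↥(S : Subgroup G) ∨ ∃ n : ℕ, Nonempty (↥(S : Subgroup G) ≃* QuaternionGroup n)) ∧
        Cfsg.IsPSolvable p G) ∨
      (p = 2 ∧ (∃ n : ℕ, 2 ≤ n ∧ Nonempty (↥(S : Subgroup G) ≃* QuaternionGroup n)) ∧
        ∃ (N : Subgroup G) (_ : N.Normal),
          N = Cfsg.omegaOne 2 (S : Subgroup G) ⊔ Cfsg.pPrimeCore 2 G ∧
          ((∃ (F : Type) (_ : Field F) (_ : Fintype F), Odd (Fintype.card F) ∧
            ∃ K : Subgroup (MulAut (Matrix.ProjectiveSpecialLinearGroup (Fin 2) F)),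
              (MulAut.conj : Matrix.ProjectiveSpecialLinearGroup (Fin 2) F →*
                MulAut (Matrix.ProjectiveSpecialLinearGroup (Fin 2) F)).range ≤ K ∧
              Nonempty (G ⧸ N ≃* ↥K)) ∨ Nonempty (G ⧸ N ≃* alternatingGroup (Fin 7)))) := by
  rcases PGroups.isCyclic_or_quaternion S.2 (unique_prime_of_rank_one S.2 hr) with
    hc | ⟨rfl, m, hm, ⟨e⟩⟩
  · rcases cyclic_case hgen S hc with ⟨h1, h2, h3, h4⟩ | h
    · exact Or.inl ⟨h1, hc, h2, h3, h4⟩
    · exact Or.inr (Or.inl ⟨h, Or.inl hc, isPSolvable_of_sup_eq_top S h⟩)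
  · rcases quaternion_case hP S m hm e with h | h
    · exact Or.inr (Or.inl ⟨h, Or.inr ⟨_, ⟨e⟩⟩, isPSolvable_of_sup_eq_top S h⟩)
    · exact Or.inr (Or.inr ⟨rfl, ⟨_, Nat.le_self_pow (by omega) 2, ⟨e⟩⟩, h⟩)

end Cfsg.Agent.Lib.PEmbRankOne
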